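import Mathlib
import Cfsg.Agent.Lib.Helper48.Ami.TopDefs

/-!
# Project AMI (S4294), AMI-TOP package [OCT]

No `x` of order 5 and `y` with `y x = x² y`, `y⁴ = -1` in a division ring of characteristic zero.

* `oct_core`: elements `s, r, w, j` with `s² = 5`, `r² = 2`, `rs = -sr`, `w² = -1`, `j² = -5`,
  `jw = -wj`, and `{s, r}` commuting with `{w, j}` cannot exist (`Z1 = 10 r + 5 s r`,
  `Z2 = 5 w + j + 2 w j` satisfy `Z1² = Z2² = -50`, `Z1 Z2 = Z2 Z1`).
* `oct_mid`: the relations for `w = y²`, `r = y - y³`, `j = δ₁ + δ₂ w` from the twisted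
  commutation rules of `y` with `s, δ₁, δ₂`.
* `pkgOct`: `s = x + x⁴ - x² - x³`, `δ₁ = x - x⁴`, `δ₂ = x² - x³`.
-/

set_option autoImplicit false

namespace Cfsg.Agent.Lib.Helper20.Ami

open Cfsg.Agent.Lib.Helper48.AmiTop

universe u

theorem oct_core {D : Type u} [DivisionRing D] [CharZero D] (s r w j : D)
    (hss : s * s = (5 : ℕ) • (1 : D)) (hrr : r * r = (2 : ℕ) • (1 : D))
    (hrs : r * s = -(s * r)) (hww : w * w = -1)
    (hjj : j * j = -((5 : ℕ) • (1 : D))) (hjw : j * w = -(w * j)) (hws : w * s = s * w)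
    (hjs : j * s = s * j) (hwr : w * r = r * w) (hjr : j * r = r * j) : False := by
  have hss' : ∀ t, s * (s * t) = (5 : ℕ) • t := fun t => by
    rw [← mul_assoc, hss, smul_mul_assoc, one_mul]
  have hrr' : ∀ t, r * (r * t) = (2 : ℕ) • t := fun t => by
    rw [← mul_assoc, hrr, smul_mul_assoc, one_mul]
  have hrs' : ∀ t, r * (s * t) = -(s * (r * t)) := fun t => by
    rw [← mul_assoc, hrs, neg_mul, mul_assoc]
  have hww' : ∀ t, w * (w * t) = -t := fun t => by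
    rw [← mul_assoc, hww, neg_one_mul]
  have hjj' : ∀ t, j * (j * t) = -((5 : ℕ) • t) := fun t => by
    rw [← mul_assoc, hjj, neg_mul, smul_mul_assoc, one_mul]
  have hjw' : ∀ t, j * (w * t) = -(w * (j * t)) := fun t => by
    rw [← mul_assoc, hjw, neg_mul, mul_assoc]
  have hws' : ∀ t, w * (s * t) = s * (w * t) := fun t => by
    rw [← mul_assoc, hws, mul_assoc]
  have hjs' : ∀ t, j * (s * t) = s * (j * t) := fun t => by
    rw [← mul_assoc, hjs, mul_assoc]
  have hwr' : ∀ t, w * (r * t) = r * (w * t) := fun t => by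
    rw [← mul_assoc, hwr, mul_assoc]
  have hjr' : ∀ t, j * (r * t) = r * (j * t) := fun t => by
    rw [← mul_assoc, hjr, mul_assoc]
  obtain ⟨Z1, hZ1⟩ : ∃ Z1 : D, Z1 = (10 : ℕ) • r + (5 : ℕ) • (s * r) := ⟨_, rfl⟩
  obtain ⟨Z2, hZ2⟩ : ∃ Z2 : D, Z2 = (5 : ℕ) • w + j + (2 : ℕ) • (w * j) := ⟨_, rfl⟩
  have hA : Z1 * Z1 = -((50 : ℕ) • (1 : D)) := by
    rw [hZ1]
    simp only [mul_add, add_mul, mul_assoc, smul_mul_assoc, mul_smul_comm, neg_mul, mul_neg,
      neg_neg, mul_one, one_mul, hss, hrr, hrs, hss', hrr', hrs']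
    abel
  have hB : Z2 * Z2 = -((50 : ℕ) • (1 : D)) := by
    rw [hZ2]
    simp only [mul_add, add_mul, mul_assoc, smul_mul_assoc, mul_smul_comm, neg_mul, mul_neg,
      neg_neg, mul_one, one_mul, hww, hjj, hjw, hww', hjj', hjw']
    abel
  have hC : Z1 * Z2 = Z2 * Z1 := by
    rw [hZ1, hZ2]
    simp only [mul_add, add_mul, mul_assoc, smul_mul_assoc, mul_smul_comm, neg_mul, mul_neg,
      neg_neg, mul_one, one_mul, hws, hjs, hwr, hjr, hws', hjs', hwr', hjr']
    abel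
  have hD : s * Z1 = -(Z1 * s) := by
    rw [hZ1]
    simp only [mul_add, add_mul, mul_assoc, smul_mul_assoc, mul_smul_comm, neg_mul, mul_neg,
      neg_neg, mul_one, one_mul, hss, hrs, hss', hrs']
    abel
  have hE : s * Z2 = Z2 * s := by
    rw [hZ2]
    simp only [mul_add, add_mul, mul_assoc, smul_mul_assoc, mul_smul_comm, neg_mul, mul_neg,
      neg_neg, mul_one, one_mul, hws, hjs, hws', hjs']
  have h0 : (Z1 - Z2) * (Z1 + Z2) = 0 := by
    have h : (Z1 - Z2) * (Z1 + Z2) = Z1 * Z1 + Z1 * Z2 - Z2 * Z1 - Z2 * Z2 := by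
      rw [sub_mul, mul_add, mul_add]
      abel
    rw [h, hA, hB, hC]
    abel
  have h1 : s * Z1 = Z1 * s := by
    rcases mul_eq_zero.mp h0 with h | h
    · have h12 : Z1 = Z2 := sub_eq_zero.mp h
      rw [h12]
      exact hE
    · have h12 : Z1 = -Z2 := eq_neg_of_add_eq_zero_left h
      rw [h12, mul_neg, neg_mul, hE]
  have h3 : Z1 * s = -(Z1 * s) := by
    calc Z1 * s = s * Z1 := h1.symm
      _ = -(Z1 * s) := hD
  have h4 : (2 : D) * (Z1 * s) = 0 := by
    rw [two_mul]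
    nth_rewrite 1 [h3]
    exact neg_add_cancel _
  have h2 : Z1 * s = 0 := (mul_eq_zero.mp h4).resolve_left two_ne_zero
  rcases mul_eq_zero.mp h2 with hz | hs0
  · rw [hz, zero_mul] at hA
    norm_num at hA
  · rw [hs0, zero_mul] at hss
    norm_num at hss

theorem oct_mid {D : Type u} [DivisionRing D] [CharZero D] (y s d1 d2 : D)
    (hys : y * s = -(s * y)) (hyd1 : y * d1 = d2 * y) (hyd2 : y * d2 = -(d1 * y))
    (hd1s : d1 * s = s * d1) (hd2s : d2 * s = s * d2) (hd21 : d2 * d1 = d1 * d2)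
    (hss : s * s = (5 : ℕ) • (1 : D))
    (hd22 : d2 * d2 = -((5 : ℕ) • (1 : D)) - d1 * d1)
    (hy4 : y * (y * (y * y)) = -1) : False := by
  have hys' : ∀ t, y * (s * t) = -(s * (y * t)) := fun t => by
    rw [← mul_assoc, hys, neg_mul, mul_assoc]
  have hyd1' : ∀ t, y * (d1 * t) = d2 * (y * t) := fun t => by
    rw [← mul_assoc, hyd1, mul_assoc]
  have hyd2' : ∀ t, y * (d2 * t) = -(d1 * (y * t)) := fun t => by
    rw [← mul_assoc, hyd2, neg_mul, mul_assoc]
  have hd1s' : ∀ t, d1 * (s * t) = s * (d1 * t) := fun t => by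
    rw [← mul_assoc, hd1s, mul_assoc]
  have hd2s' : ∀ t, d2 * (s * t) = s * (d2 * t) := fun t => by
    rw [← mul_assoc, hd2s, mul_assoc]
  have hd21' : ∀ t, d2 * (d1 * t) = d1 * (d2 * t) := fun t => by
    rw [← mul_assoc, hd21, mul_assoc]
  have hd22' : ∀ t, d2 * (d2 * t) = -((5 : ℕ) • t) - d1 * (d1 * t) := fun t => by
    rw [← mul_assoc, hd22, sub_mul, neg_mul, smul_mul_assoc, one_mul, mul_assoc]
  have hy4' : ∀ t, y * (y * (y * (y * t))) = -t := fun t => by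
    have h : y * (y * (y * (y * t))) = (y * (y * (y * y))) * t := by
      simp only [mul_assoc]
    rw [h, hy4, neg_one_mul]
  refine oct_core s (y - y * (y * y)) (y * y) (d1 + d2 * (y * y)) hss ?_ ?_ ?_ ?_ ?_ ?_ ?_ ?_ ?_
  · -- r * r = 2
    simp only [mul_add, add_mul, mul_sub, sub_mul, mul_assoc, smul_mul_assoc, mul_smul_comm,
      neg_mul, mul_neg, neg_neg, mul_one, one_mul, hy4, hy4']
    abel
  · -- r * s = -(s * r)
    simp only [mul_add, add_mul, mul_sub, sub_mul, mul_assoc, smul_mul_assoc, mul_smul_comm,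
      neg_mul, mul_neg, neg_neg, mul_one, one_mul, hys, hys']
    abel
  · -- w * w = -1
    simp only [mul_assoc, hy4]
  · -- j * j = -5
    simp only [mul_add, add_mul, mul_sub, sub_mul, mul_assoc, smul_mul_assoc, mul_smul_comm,
      neg_mul, mul_neg, neg_neg, mul_one, one_mul, hyd1, hyd1', hyd2, hyd2', hd21, hd21', hd22,
      hd22', hy4, hy4']
    abel
  · -- j * w = -(w * j)
    simp only [mul_add, add_mul, mul_sub, sub_mul, mul_assoc, smul_mul_assoc, mul_smul_comm,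
      neg_mul, mul_neg, neg_neg, mul_one, one_mul, hyd1, hyd1', hyd2, hyd2', hy4, hy4']
    abel
  · -- w * s = s * w
    simp only [mul_assoc, neg_mul, mul_neg, neg_neg, hys, hys']
  · -- j * s = s * j
    simp only [mul_add, add_mul, mul_assoc, neg_mul, mul_neg, neg_neg, hys, hys', hd1s, hd1s',
      hd2s, hd2s']
  · -- w * r = r * w
    simp only [mul_add, add_mul, mul_sub, sub_mul, mul_assoc]
  · -- j * r = r * j
    simp only [mul_add, add_mul, mul_sub, sub_mul, mul_assoc, smul_mul_assoc, mul_smul_comm,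
      neg_mul, mul_neg, neg_neg, mul_one, one_mul, hyd1, hyd1', hyd2, hyd2', hy4, hy4']
    abel

open Polynomial in
/-- [OCT] -/
theorem pkgOct : PkgOct.{u} := by
  intro D _ _ x y hx5 hx1 hyx hy4
  have hΦ : 1 + x + x ^ 2 + x ^ 3 + x ^ 4 = 0 := by
    have h := geom_sum_mul x 5
    rw [hx5, sub_self] at h
    rcases mul_eq_zero.mp h with h | h
    · simpa [Finset.sum_range_succ] using h
    · exact absurd (sub_eq_zero.mp h) hx1
  have hΦ' : aeval x (1 + X + X ^ 2 + X ^ 3 + X ^ 4 : ℤ[X]) = 0 := by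
    simpa using hΦ
  have key5 : ((X + X ^ 4 - X ^ 2 - X ^ 3) * (X + X ^ 4 - X ^ 2 - X ^ 3) : ℤ[X]) =
      5 + (-5 + 5 * X + X ^ 2 - 3 * X ^ 3 + X ^ 4) * (1 + X + X ^ 2 + X ^ 3 + X ^ 4) := by
    ring
  have key6 : ((X - X ^ 4) * (X - X ^ 4) + (X ^ 2 - X ^ 3) * (X ^ 2 - X ^ 3) : ℤ[X]) =
      -5 + (5 - 5 * X + X ^ 2 - X ^ 3 + X ^ 4) * (1 + X + X ^ 2 + X ^ 3 + X ^ 4) := by
    ring
  have hs5 : (x + x ^ 4 - x ^ 2 - x ^ 3) * (x + x ^ 4 - x ^ 2 - x ^ 3) = 5 := by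
    have h := congrArg (aeval x) key5
    simp only [map_add, map_mul, map_sub, map_pow, map_neg, map_one, aeval_X, map_ofNat] at h
    rw [hΦ, mul_zero, add_zero] at h
    exact h
  have hd6 : (x - x ^ 4) * (x - x ^ 4) + (x ^ 2 - x ^ 3) * (x ^ 2 - x ^ 3) = -5 := by
    have h := congrArg (aeval x) key6
    simp only [map_add, map_mul, map_sub, map_pow, map_neg, map_one, aeval_X, map_ofNat] at h
    rw [hΦ, mul_zero, add_zero] at h
    exact h
  have hcomm : ∀ p q : ℤ[X], aeval x p * aeval x q = aeval x q * aeval x p := fun p q => by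
    rw [← map_mul, ← map_mul, mul_comm]
  have hd1s : (x - x ^ 4) * (x + x ^ 4 - x ^ 2 - x ^ 3) =
      (x + x ^ 4 - x ^ 2 - x ^ 3) * (x - x ^ 4) := by
    have h := hcomm (X - X ^ 4) (X + X ^ 4 - X ^ 2 - X ^ 3)
    simp only [map_add, map_sub, map_pow, aeval_X] at h
    exact h
  have hd2s : (x ^ 2 - x ^ 3) * (x + x ^ 4 - x ^ 2 - x ^ 3) =
      (x + x ^ 4 - x ^ 2 - x ^ 3) * (x ^ 2 - x ^ 3) := by
    have h := hcomm (X ^ 2 - X ^ 3) (X + X ^ 4 - X ^ 2 - X ^ 3)
    simp only [map_add, map_sub, map_pow, aeval_X] at h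
    exact h
  have hd21 : (x ^ 2 - x ^ 3) * (x - x ^ 4) = (x - x ^ 4) * (x ^ 2 - x ^ 3) := by
    have h := hcomm (X ^ 2 - X ^ 3) (X - X ^ 4)
    simp only [map_add, map_sub, map_pow, aeval_X] at h
    exact h
  have hx6 : x ^ 6 = x := by
    rw [show 6 = 5 + 1 from rfl, pow_add, hx5, one_mul, pow_one]
  have hx8 : x ^ 8 = x ^ 3 := by
    rw [show 8 = 5 + 3 from rfl, pow_add, hx5, one_mul]
  have hyk : ∀ k : ℕ, y * x ^ k = x ^ (2 * k) * y := by
    intro k
    induction k with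
    | zero => simp
    | succ k ih =>
      rw [pow_succ, ← mul_assoc, ih, mul_assoc, hyx, ← mul_assoc, ← pow_add]
      congr 2
  have e2 : y * x ^ 2 = x ^ 4 * y := hyk 2
  have e3 : y * x ^ 3 = x * y := by
    have h := hyk 3
    rw [show 2 * 3 = 6 from rfl, hx6] at h
    exact h
  have e4 : y * x ^ 4 = x ^ 3 * y := by
    have h := hyk 4
    rw [show 2 * 4 = 8 from rfl, hx8] at h
    exact h
  have hys : y * (x + x ^ 4 - x ^ 2 - x ^ 3) = -((x + x ^ 4 - x ^ 2 - x ^ 3) * y) := by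
    rw [mul_sub, mul_sub, mul_add, hyx, e4, e2, e3, sub_mul, sub_mul, add_mul]
    abel
  have hyd1 : y * (x - x ^ 4) = (x ^ 2 - x ^ 3) * y := by
    rw [mul_sub, hyx, e4, sub_mul]
  have hyd2 : y * (x ^ 2 - x ^ 3) = -((x - x ^ 4) * y) := by
    rw [mul_sub, e2, e3, sub_mul]
    abel
  have hy4' : y * (y * (y * y)) = -1 := by
    rw [← hy4]
    simp [pow_succ, mul_assoc]
  refine oct_mid y (x + x ^ 4 - x ^ 2 - x ^ 3) (x - x ^ 4) (x ^ 2 - x ^ 3) hys hyd1 hyd2 hd1s hd2s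
    hd21 ?_ ?_ hy4'
  · rw [hs5]
    norm_num
  · rw [eq_sub_iff_add_eq, add_comm, hd6]
    norm_num

end Cfsg.Agent.Lib.Helper20.Ami
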